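import Groth.Agent.CohBound.FlatQuot
import Groth.Agent.PicBdd.Hilb
import Groth.Agent.BettiNN.Basic
import Groth.Agent.CurveRR.Euler
import Groth.Agent.ModDesc.Iso
import Groth.Agent.S1526
import Groth.Agent.S1026
import Groth.Agent.FormEquiv.Killed

/-!
A semicontinuity inequality for two extensions of flat families.
-/

set_option autoImplicit false
set_option linter.style.haveILetI false
set_option linter.unusedSectionVars false
set_option backward.isDefEq.respectTransparency false
set_option backward.isDefEq.respectTransparency.types false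

universe u

open CategoryTheory CategoryTheory.Limits AlgebraicGeometry TopologicalSpace
open Groth.Agent.CohFinite

noncomputable section

namespace Groth.Agent.ExtFamily

variable (k : Type u) [Field k] {S : Scheme.{u}} [S.Over (Spec (CommRingCat.of k))]

section Seq

variable [IsProper (S ↘ Spec (CommRingCat.of k))] {T : ShortComplex S.Modules} (hT : T.ShortExact)

include hT in
/-- The first term has at most as many sections as the middle one. -/
theorem h0_mono (h₂ : Coh.IsCoh T.X₂) :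
    Module.finrank k (Coh.HH S T.X₁ 0) ≤ Module.finrank k (Coh.HH S T.X₂ 0) := by
  haveI := finite_proper k S _ h₂ 0
  exact LinearMap.finrank_le_finrank_of_injective (CurveRR.injective_f (k := k) hT)

include hT in
/-- The middle term has at most as many sections as the two ends. -/
theorem h0_le (h₁ : Coh.IsCoh T.X₁) (h₃ : Coh.IsCoh T.X₃) :
    Module.finrank k (Coh.HH S T.X₂ 0) ≤ Module.finrank k (Coh.HH S T.X₁ 0) + Module.finrank k (Coh.HH S T.X₃ 0) := by
  haveI := finite_proper k S _ h₁ 0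
  haveI := finite_proper k S _ h₃ 0
  haveI : Module.Finite k (LinearMap.range (hhMap k T.g 0)) := Module.Finite.of_injective
    (LinearMap.range (hhMap k T.g 0)).subtype Subtype.val_injective
  let f := hhMap k T.f 0
  let g := hhMap k T.g 0
  have hr := CurveRR.range_f_eq_ker_g (k := k) hT 0
  haveI : Module.Finite k (Coh.HH S T.X₂ 0) :=
    Module.Finite.of_exact (f := f) (g := g.rangeRestrict)
      (LinearMap.exact_iff.2 (by rw [LinearMap.ker_rangeRestrict]; exact hr.symm)) g.surjective_rangeRestrict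
  have h := LinearMap.finrank_range_add_finrank_ker g
  have h2 : Module.finrank k (LinearMap.ker g) ≤ Module.finrank k (Coh.HH S T.X₁ 0) := by
    rw [← hr]
    exact LinearMap.finrank_range_le _
  have h3 : Module.finrank k (LinearMap.range g) ≤ Module.finrank k (Coh.HH S T.X₃ 0) := Submodule.finrank_le _
  omega

include hT in
/-- With equal first cohomology the sections add up. -/
theorem h0_eq (h₁ : Coh.IsCoh T.X₁) (h₂ : Coh.IsCoh T.X₂) [hQ : Subsingleton (Coh.HH S T.X₃ 1)]
    (h1 : Module.finrank k (Coh.HH S T.X₁ 1) = Module.finrank k (Coh.HH S T.X₂ 1)) :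
    Module.finrank k (Coh.HH S T.X₂ 0) = Module.finrank k (Coh.HH S T.X₁ 0) + Module.finrank k (Coh.HH S T.X₃ 0) := by
  haveI := finite_proper k S _ h₁ 1
  haveI := finite_proper k S _ h₂ 1
  haveI := finite_proper k S _ h₂ 0
  let f := hhMap k T.f 1
  have hs : Function.Surjective f := by
    rw [← LinearMap.range_eq_top, CurveRR.range_f_eq_ker_g (k := k) hT 1]
    exact eq_top_iff.2 fun x _ => Subsingleton.elim _ _
  have hi : Function.Injective f := (LinearMap.injective_iff_surjective_of_finrank_eq_finrank h1).2 hs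
  have hg : Function.Surjective (hhMap k T.g 0) := by
    rw [← LinearMap.range_eq_top, CurveRR.range_g_eq_ker_δ (k := k) hT 0, LinearMap.ker_eq_top, ← LinearMap.range_eq_bot,
      CurveRR.range_δ_eq_ker_f (k := k) hT 0]
    exact LinearMap.ker_eq_bot.2 hi
  have h := LinearMap.finrank_range_add_finrank_ker (hhMap k T.g 0)
  rw [LinearMap.range_eq_top.2 hg, finrank_top, ← CurveRR.range_f_eq_ker_g (k := k) hT 0,
    LinearMap.finrank_range_of_inj (CurveRR.injective_f (k := k) hT)] at h
  omega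

end Seq

section Mk

variable [IsProper (S ↘ Spec (CommRingCat.of k))] {A B C : S.Modules} {f : A ⟶ B} {g : B ⟶ C} {w : f ≫ g = 0}
  (hT : (ShortComplex.mk f g w).ShortExact)

include hT in
theorem h0_mono' (h₂ : Coh.IsCoh B) : Module.finrank k (Coh.HH S A 0) ≤ Module.finrank k (Coh.HH S B 0) := by
  have h := h0_mono k (T := ShortComplex.mk f g w) hT h₂
  dsimp only at h
  exact h

include hT in
theorem h0_le' (h₁ : Coh.IsCoh A) (h₃ : Coh.IsCoh C) :
    Module.finrank k (Coh.HH S B 0) ≤ Module.finrank k (Coh.HH S A 0) + Module.finrank k (Coh.HH S C 0) := by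
  have h := h0_le k (T := ShortComplex.mk f g w) hT h₁ h₃
  dsimp only at h
  exact h

include hT in
theorem h0_eq' (h₁ : Coh.IsCoh A) (h₂ : Coh.IsCoh B) (hQ : Subsingleton (Coh.HH S C 1))
    (h1 : Module.finrank k (Coh.HH S A 1) = Module.finrank k (Coh.HH S B 1)) :
    Module.finrank k (Coh.HH S B 0) = Module.finrank k (Coh.HH S A 0) + Module.finrank k (Coh.HH S C 0) := by
  have h := h0_eq k (T := ShortComplex.mk f g w) hT h₁ h₂ (hQ := hQ) h1
  dsimp only at h
  exact h

end Mk

variable [IsProper (S ↘ Spec (CommRingCat.of k))] {P : Scheme.{u}} (q : P ⟶ Spec (CommRingCat.of k))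
  [IsIntegral P] [LocallyOfFiniteType q]

/-- Exactness on the slice of a sequence with flat cokernel. -/
theorem shortExact_slice {A B : (Pic13.prodK k S q).Modules} (α : A ⟶ B) [Mono α]
    (hQ : FlatMod.IsFlatOver (pullback.snd (S ↘ Spec (CommRingCat.of k)) q) (cokernel α))
    (t : Spec (CommRingCat.of k) ⟶ P) (ht : t ≫ q = 𝟙 _) :
    ∃ (f : Pic13.fibreMod k S q t ht A ⟶ Pic13.fibreMod k S q t ht B)
      (g : Pic13.fibreMod k S q t ht B ⟶ Pic13.fibreMod k S q t ht (cokernel α)) (w : f ≫ g = 0),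
      (ShortComplex.mk f g w).ShortExact := by
  let g := S ↘ Spec (CommRingCat.of k)
  let T := ShortComplex.mk α (cokernel.π α) (cokernel.condition α)
  have hT : T.ShortExact := { exact := ShortComplex.exact_cokernel α }
  have sq : IsPullback (Pic13.sliceAt k S q t ht) g (pullback.snd g q) t := by
    refine IsPullback.of_right (h₁₂ := pullback.fst g q) (h₂₂ := q) (v₁₃ := g) ?_
      (pullback.lift_snd _ _ _) (IsPullback.of_hasPullback g q)
    rw [show Pic13.sliceAt k S q t ht ≫ pullback.fst g q = 𝟙 S from pullback.lift_fst _ _ _, ht]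
    exact IsPullback.of_horiz_isIso ⟨by simp [g]⟩
  have h := CohBound.shortExact_pullback_fst (pullback.snd g q) t hT fun x _ => hQ x
  haveI : (Scheme.Modules.pullback sq.isoPullback.hom).IsEquivalence := FormEquiv.isEquivalence_pullback sq.isoPullback.hom
  haveI : PreservesFiniteLimits (Scheme.Modules.pullback sq.isoPullback.hom) := inferInstance
  haveI : PreservesFiniteColimits (Scheme.Modules.pullback sq.isoPullback.hom) := inferInstance
  let e : Scheme.Modules.pullback (pullback.fst (pullback.snd g q) t) ⋙ Scheme.Modules.pullback sq.isoPullback.hom ≅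
      Scheme.Modules.pullback (Pic13.sliceAt k S q t ht) :=
    Scheme.Modules.pullbackComp _ _ ≪≫ Scheme.Modules.pullbackCongr sq.isoPullback_hom_fst
  exact ⟨_, _, _, ShortComplex.shortExact_of_iso (ShortComplex.mapNatIso T e) (h.map_of_exact (Scheme.Modules.pullback sq.isoPullback.hom))⟩

/-- Sections of a flat family of modules with zero-dimensional fibres. -/
theorem h0_const {Q : (Pic13.prodK k S q).Modules} [Smooth (S ↘ Spec (CommRingCat.of k))] (hQc : Coh.IsCoh Q)
    (hQ : FlatMod.IsFlatOver (pullback.snd (S ↘ Spec (CommRingCat.of k)) q) Q)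
    (h0 : ∀ (t : Spec (CommRingCat.of k) ⟶ P) (ht : t ≫ q = 𝟙 _),
      topologicalKrullDim (CohB1.support (Pic13.fibreMod k S q t ht Q)) ≤ 0)
    (t t₀ : Spec (CommRingCat.of k) ⟶ P) (ht : t ≫ q = 𝟙 _) (ht₀ : t₀ ≫ q = 𝟙 _) :
    Module.finrank k (Coh.HH S (Pic13.fibreMod k S q t ht Q) 0) =
      Module.finrank k (Coh.HH S (Pic13.fibreMod k S q t₀ ht₀ Q) 0) := by
  haveI : IsLocallyNoetherian P := LocallyOfFiniteType.isLocallyNoetherian q
  haveI : LocallyOfFiniteType (pullback.snd (S ↘ Spec (CommRingCat.of k)) q) := inferInstance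
  haveI : IsLocallyNoetherian (pullback (S ↘ Spec (CommRingCat.of k)) q) :=
    LocallyOfFiniteType.isLocallyNoetherian (pullback.snd (S ↘ Spec (CommRingCat.of k)) q)
  haveI : Coh.IsQCoh Q := hQc.1
  have hlc := S1026.result (pullback.snd (S ↘ Spec (CommRingCat.of k)) q) Q
    (QC.isFP_of_isQCoh_of_isFT hQc.2) hQ
  let x : ↑(Spec (CommRingCat.of k)) := default
  have key : ∀ (s : Spec (CommRingCat.of k) ⟶ P) (hs : s ≫ q = 𝟙 _),
      PerfAux.eulerChar (pullback.snd (S ↘ Spec (CommRingCat.of k)) q) Q (s.base x) =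
        (Module.finrank k (Coh.HH S (Pic13.fibreMod k S q s hs Q) 0) : ℤ) := by
    intro s hs
    have hc : Coh.IsCoh (Pic13.fibreMod k S q s hs Q) :=
      ⟨QC.isQCoh_pullback _ hQc.1, ModDesc.isFT_pullback _ hQc.1 hQc.2⟩
    simp only [PerfAux.eulerChar, PicBdd.betti_fibreMod k s hs x hQc.1]
    rw [finsum_eq_single _ 0 fun i hi => ?_]
    · rw [pow_zero, one_mul]
    · haveI := S1526.result k S _ hc (h0 s hs) i (Nat.one_le_iff_ne_zero.2 hi)
      show (-1 : ℤ) ^ i * ((Module.finrank k (Coh.HH S (Pic13.fibreMod k S q s hs Q) i) : ℕ) : ℤ) = 0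
      rw [Module.finrank_zero_of_subsingleton]
      simp
  have := hlc.apply_eq_of_preconnectedSpace (t.base x) (t₀.base x)
  rw [key t ht, key t₀ ht₀] at this
  exact_mod_cast this

/-- The inequality. -/
theorem h0_fibre_le [Smooth (S ↘ Spec (CommRingCat.of k))] {A A' A'' : (Pic13.prodK k S q).Modules}
    (hA : Coh.IsCoh A) (hA' : Coh.IsCoh A') (hA'' : Coh.IsCoh A'') (α : A' ⟶ A) (β : A' ⟶ A'') [Mono α] [Mono β]
    (hQ : FlatMod.IsFlatOver (pullback.snd (S ↘ Spec (CommRingCat.of k)) q) (cokernel α))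
    (hQ' : FlatMod.IsFlatOver (pullback.snd (S ↘ Spec (CommRingCat.of k)) q) (cokernel β))
    (h00 : ∀ (t : Spec (CommRingCat.of k) ⟶ P) (ht : t ≫ q = 𝟙 _),
      topologicalKrullDim (CohB1.support (Pic13.fibreMod k S q t ht (cokernel β))) ≤ 0)
    (t t₀ : Spec (CommRingCat.of k) ⟶ P) (ht : t ≫ q = 𝟙 _) (ht₀ : t₀ ≫ q = 𝟙 _)
    (h0 : Module.finrank k (Coh.HH S (Pic13.fibreMod k S q t₀ ht₀ A') 0) =
      Module.finrank k (Coh.HH S (Pic13.fibreMod k S q t₀ ht₀ A) 0))
    (h1 : Module.finrank k (Coh.HH S (Pic13.fibreMod k S q t₀ ht₀ A') 1) =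
      Module.finrank k (Coh.HH S (Pic13.fibreMod k S q t₀ ht₀ A'') 1))
    (hup : Module.finrank k (Coh.HH S (Pic13.fibreMod k S q t₀ ht₀ A'') 0) ≤
      Module.finrank k (Coh.HH S (Pic13.fibreMod k S q t ht A'') 0)) :
    Module.finrank k (Coh.HH S (Pic13.fibreMod k S q t₀ ht₀ A) 0) ≤
      Module.finrank k (Coh.HH S (Pic13.fibreMod k S q t ht A) 0) := by
  haveI : IsLocallyNoetherian P := LocallyOfFiniteType.isLocallyNoetherian q
  haveI : IsLocallyNoetherian (pullback (S ↘ Spec (CommRingCat.of k)) q) :=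
    LocallyOfFiniteType.isLocallyNoetherian (pullback.snd (S ↘ Spec (CommRingCat.of k)) q)
  have hb : Coh.IsCoh (cokernel β) := QC.isCoh_cokernel hA'.1 hA'' β
  have hp : ∀ {M : (Pic13.prodK k S q).Modules}, Coh.IsCoh M → ∀ (s : Spec (CommRingCat.of k) ⟶ P) (hs : s ≫ q = 𝟙 _),
      Coh.IsCoh (Pic13.fibreMod k S q s hs M) := fun hM s hs =>
    ⟨QC.isQCoh_pullback _ hM.1, ModDesc.isFT_pullback _ hM.1 hM.2⟩
  obtain ⟨fa, ga, wa, ha⟩ := shortExact_slice k q α hQ t ht
  obtain ⟨fb, gb, wb, hbt⟩ := shortExact_slice k q β hQ' t ht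
  obtain ⟨fc, gc, wc, hct⟩ := shortExact_slice k q β hQ' t₀ ht₀
  have e1 := h0_mono' k ha (hp hA t ht)
  have e2 := h0_le' k hbt (hp hA' t ht) (hp hb t ht)
  have e3 := h0_eq' k hct (hp hA' t₀ ht₀) (hp hA'' t₀ ht₀) (S1526.result k S _ (hp hb t₀ ht₀) (h00 t₀ ht₀) 1 le_rfl) h1
  have e4 := h0_const k q hb hQ' h00 t t₀ ht ht₀
  omega

end Groth.Agent.ExtFamily
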